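import Mathlib

/-! # Counting multiple points of an incidence relation with constant pairwise intersections -/

set_option autoImplicit false

universe u v

namespace Groth.Agent.HarbCount

variable {P : Type u} {ι : Type v} [Fintype ι] (inc : P → ι → Prop) (h : ℕ)

/-- The multiple points. -/
abbrev multi : Set P := {p : P | 2 ≤ Nat.card {j : ι // inc p j}}

lemma mem_multi {p : P} {i j : ι} (hij : i ≠ j) (hi : inc p i) (hj : inc p j) : p ∈ multi inc := by
  classical
  show 2 ≤ Nat.card {j : ι // inc p j}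
  rw [Nat.card_eq_fintype_card]
  exact Fintype.one_lt_card_iff.2 ⟨⟨i, hi⟩, ⟨j, hj⟩, fun e => hij (congrArg Subtype.val e)⟩

lemma exists_of_mem_multi {p : P} (hp : p ∈ multi inc) : ∃ i j, i ≠ j ∧ inc p i ∧ inc p j := by
  classical
  have hp' : 1 < Fintype.card {j : ι // inc p j} := by
    have : 2 ≤ Nat.card {j : ι // inc p j} := hp
    rw [Nat.card_eq_fintype_card] at this
    omega
  obtain ⟨⟨i, hi⟩, ⟨j, hj⟩, hne⟩ := Fintype.one_lt_card_iff.1 hp'
  exact ⟨i, j, fun e => hne (Subtype.ext e), hi, hj⟩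

variable (hh : 0 < h) (hfin : ∀ i j : ι, i ≠ j → {p : P | inc p i ∧ inc p j}.Finite)
  (hcount : ∀ i j : ι, i ≠ j → {p : P | inc p i ∧ inc p j}.ncard = h)
  (hnone : ∀ p : P, ∃ i : ι, ¬ inc p i)

include hfin in
lemma finite_multi : (multi inc).Finite := by
  refine (Set.finite_iUnion fun ij : {q : ι × ι // q.1 ≠ q.2} => hfin ij.1.1 ij.1.2 ij.2).subset fun p hp => ?_
  obtain ⟨i, j, hne, hi, hj⟩ := exists_of_mem_multi inc hp
  exact Set.mem_iUnion.2 ⟨⟨(i, j), hne⟩, hi, hj⟩

include hh hfin hcount hnone in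
/-- A curve has more than `h` multiple points. -/
lemma lt_card_on_curve (i : ι) (hi : ∃ j, j ≠ i) : h < {p ∈ multi inc | inc p i}.ncard := by
  obtain ⟨j, hj⟩ := hi
  have hsub : ∀ k, k ≠ i → {p : P | inc p i ∧ inc p k} ⊆ {p ∈ multi inc | inc p i} := fun k hk p hp =>
    ⟨mem_multi inc (Ne.symm hk) hp.1 hp.2, hp.1⟩
  have hfinA : {p ∈ multi inc | inc p i}.Finite := (finite_multi inc hfin).subset fun p hp => hp.1
  by_contra hle
  obtain ⟨p, hp⟩ := Set.nonempty_of_ncard_ne_zero (s := {p : P | inc p i ∧ inc p j})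
    (by rw [hcount i j (Ne.symm hj)]; omega)
  obtain ⟨k, hk⟩ := hnone p
  have hki : k ≠ i := fun e => hk (e ▸ hp.1)
  have hle' : {p ∈ multi inc | inc p i}.ncard ≤ {p : P | inc p i ∧ inc p k}.ncard := by
    rw [hcount i k (Ne.symm hki)]; omega
  have heq := Set.eq_of_subset_of_ncard_le (hsub k hki) hle' hfinA
  exact hk (heq.ge (hsub j hj hp)).2

include hh hfin hcount hnone in
theorem add_two_le (hd : 2 ≤ Fintype.card ι) : h + 2 ≤ Nat.card {p : P // p ∈ multi inc} := by
  classical
  obtain ⟨i, j, hij⟩ := Fintype.exists_pair_of_one_lt_card (α := ι) hd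
  have h1 := lt_card_on_curve inc h hh hfin hcount hnone i ⟨j, Ne.symm hij⟩
  have hex : ∃ q ∈ multi inc, ¬ inc q i := by
    by_contra hno
    push Not at hno
    obtain ⟨p, hp⟩ := Set.nonempty_of_ncard_ne_zero (s := {p : P | inc p i ∧ inc p j})
      (by rw [hcount i j hij]; omega)
    obtain ⟨k, hk⟩ := hnone p
    have hki : k ≠ i := fun e => hk (e ▸ hp.1)
    have hkj : j ≠ k := fun e => hk (e ▸ hp.2)
    have hs : ∀ a b, a ≠ b → a ≠ i → {p : P | inc p a ∧ inc p b} = {p : P | inc p i ∧ inc p a} := fun a b hab hai =>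
      Set.eq_of_subset_of_ncard_le (fun q hq => ⟨hno q (mem_multi inc hab hq.1 hq.2), hq.1⟩)
        (by rw [hcount a b hab, hcount i a (Ne.symm hai)]) (hfin i a (Ne.symm hai))
    exact hk ((hs j k hkj (Ne.symm hij)).ge hp).2
  obtain ⟨q, hq, hqi⟩ := hex
  have hfinM := finite_multi inc hfin
  have h2 : {p ∈ multi inc | inc p i}.ncard < (multi inc).ncard :=
    Set.ncard_lt_ncard ⟨fun p hp => hp.1, fun hsub => hqi (hsub hq).2⟩ hfinM
  rw [Nat.card_coe_set_eq]
  omega

include hh hfin hcount hnone in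
/-- Fisher's inequality. -/
theorem card_le (hd : 2 ≤ Fintype.card ι) : Fintype.card ι ≤ Nat.card {p : P // p ∈ multi inc} := by
  classical
  have hfinM := finite_multi inc hfin
  haveI : Fintype {p : P // p ∈ multi inc} := hfinM.fintype
  let v : ι → ({p : P // p ∈ multi inc} → ℚ) := fun i p => if inc p.1 i then 1 else 0
  have hv : LinearIndependent ℚ v := by
    rw [Fintype.linearIndependent_iff]
    intro c hc
    have hdot : ∀ a b, a ≠ b → ∑ p, v a p * v b p = (h : ℚ) := fun a b hab => by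
      simp only [v, ite_zero_mul_ite_zero, one_mul, Finset.sum_boole]
      rw [← hcount a b hab, Set.ncard_eq_toFinset_card _ (hfin a b hab)]
      refine congrArg Nat.cast (Finset.card_bij (fun p _ => p.1) (fun p hp => ?_) (fun p _ q _ e => Subtype.ext e) fun q hq => ?_)
      · rw [Set.Finite.mem_toFinset]; exact (Finset.mem_filter.1 hp).2
      · rw [Set.Finite.mem_toFinset] at hq
        exact ⟨⟨q, mem_multi inc hab hq.1 hq.2⟩, Finset.mem_filter.2 ⟨Finset.mem_univ _, hq⟩, rfl⟩
    have hself : ∀ a, (h : ℚ) < ∑ p, v a p * v a p := fun a => by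
      obtain ⟨b, hb⟩ := Fintype.exists_ne_of_one_lt_card hd a
      have := lt_card_on_curve inc h hh hfin hcount hnone a ⟨b, hb⟩
      simp only [v, ite_zero_mul_ite_zero, one_mul, and_self, Finset.sum_boole]
      rw [Nat.cast_lt]
      refine this.trans_le (le_of_eq ?_)
      rw [Set.ncard_eq_toFinset_card _ (hfinM.subset fun p hp => hp.1)]
      refine (Finset.card_bij (fun p _ => p.1) (fun p hp => ?_) (fun p _ q _ e => Subtype.ext e) fun q hq => ?_).symm
      · rw [Set.Finite.mem_toFinset]; exact ⟨p.2, (Finset.mem_filter.1 hp).2⟩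
      · rw [Set.Finite.mem_toFinset] at hq
        exact ⟨⟨q, hq.1⟩, Finset.mem_filter.2 ⟨Finset.mem_univ _, hq.2⟩, rfl⟩
    have key : 0 = ∑ a, ∑ b, c a * c b * ∑ p, v a p * v b p := by
      have h0 : ∑ p, (∑ a, c a * v a p) * (∑ b, c b * v b p) = 0 := Finset.sum_eq_zero fun p _ => by
        have := congrFun hc p
        simp only [Finset.sum_apply, Pi.smul_apply, smul_eq_mul, Pi.zero_apply] at this
        rw [this, mul_zero]
      rw [← h0]
      simp only [Finset.sum_mul, Finset.mul_sum]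
      rw [Finset.sum_comm]
      refine Finset.sum_congr rfl fun a _ => ?_
      rw [Finset.sum_comm]
      refine Finset.sum_congr rfl fun b _ => Finset.sum_congr rfl fun p _ => by ring
    have e : ∑ a, ∑ b, c a * c b * ∑ p, v a p * v b p =
        (h : ℚ) * (∑ a, c a) ^ 2 + ∑ a, (c a) ^ 2 * (∑ p, v a p * v a p - h) := by
      rw [sq, Finset.sum_mul, Finset.mul_sum, ← Finset.sum_add_distrib]
      refine Finset.sum_congr rfl fun a _ => ?_
      rw [Finset.mul_sum, Finset.mul_sum, ← Finset.sum_erase_add _ _ (Finset.mem_univ a),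
        ← Finset.sum_erase_add _ (fun b => (h : ℚ) * (c a * c b)) (Finset.mem_univ a)]
      rw [Finset.sum_congr rfl (fun b hb => by rw [hdot a b (Ne.symm (Finset.ne_of_mem_erase hb))])]
      rw [show (∑ b ∈ Finset.univ.erase a, c a * c b * (h : ℚ)) = ∑ b ∈ Finset.univ.erase a, (h : ℚ) * (c a * c b) from
        Finset.sum_congr rfl fun b _ => by ring]
      ring
    have hz : ∑ a, (c a) ^ 2 * (∑ p, v a p * v a p - h) = 0 := by
      have hn : ∀ a ∈ (Finset.univ : Finset ι), 0 ≤ (c a) ^ 2 * (∑ p, v a p * v a p - h) :=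
        fun a _ => mul_nonneg (sq_nonneg _) (by linarith [hself a])
      have := mul_nonneg (Nat.cast_nonneg' (α := ℚ) h) (sq_nonneg (∑ a, c a))
      linarith [Finset.sum_nonneg hn]
    intro a
    have := (Finset.sum_eq_zero_iff_of_nonneg
      (fun a _ => mul_nonneg (sq_nonneg (c a)) (by linarith [hself a]))).1 hz a (Finset.mem_univ a)
    rcases mul_eq_zero.1 this with h' | h'
    · exact pow_eq_zero_iff two_ne_zero |>.1 h'
    · exact absurd h' (by linarith [hself a])
  rw [Nat.card_eq_fintype_card]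
  exact hv.fintype_card_le_finrank.trans (le_of_eq (Module.finrank_fintype_fun_eq_card ℚ))

end Groth.Agent.HarbCount
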